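import Cfsg.Agent.CL.Basic
import Cfsg.Agent.S0723
import Cfsg.Agent.Solv.MinNormal

/-! Composition length of permutation groups: numerical lemmas and the primitive step of the bound
`3 c(G) + 4 r ≤ 4 n` (`Bd`). -/

set_option autoImplicit false

namespace Cfsg.Agent.CL

open Subgroup ArithmeticFunction
open scoped ArithmeticFunction.Omega

theorem le_pow_omega {b j : ℕ} (hj : j ≠ 0) (h : ∀ p : ℕ, p.Prime → p ∣ j → p ≤ b) : j ≤ b ^ Ω j := by
  induction j using Nat.recOnMul with
  | zero => exact absurd rfl hj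
  | one => simp
  | prime p hp => rw [cardFactors_apply_prime hp, pow_one]; exact h p hp dvd_rfl
  | mul x y hx hy =>
    have h1 := left_ne_zero_of_mul hj
    have h2 := right_ne_zero_of_mul hj
    rw [cardFactors_mul h1 h2, pow_add]
    exact Nat.mul_le_mul (hx h1 fun p hp hd => h p hp (hd.mul_right _)) (hy h2 fun p hp hd => h p hp (hd.mul_left _))

theorem sq_le_pow (L : ℕ) (hL : 5 ≤ L) : 3 * (L + 1) ^ 2 + 1 ≤ 4 * 2 ^ L := by
  induction L, hL using Nat.le_induction with
  | base => norm_num
  | succ L hL ih => rw [pow_succ 2 L]; nlinarith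

theorem num_reg {n m : ℕ} (hn : 2 ≤ n) (hm : m ∣ n.factorial) (hle : m ≤ n ^ (Nat.log 2 n + 1)) :
    3 * Ω m + 4 ≤ 4 * n := by
  have hm0 : m ≠ 0 := ne_zero_of_dvd_ne_zero n.factorial_ne_zero hm
  have h2 := (two_pow_omega hm0).trans hle
  rcases Nat.lt_or_ge n 11 with h11 | h11
  · obtain ⟨j, hj⟩ := hm
    have hj0 : j ≠ 0 := fun e => n.factorial_ne_zero (by rw [hj, e, mul_zero])
    have h3 : Ω n.factorial = Ω m + Ω j := by rw [hj, cardFactors_mul hm0 hj0]
    have h4 : j ≤ 7 ^ Ω j := le_pow_omega hj0 fun p hp hd => by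
      have := hp.dvd_factorial.1 (hj ▸ hd.mul_left m)
      have h10 : p ≤ 10 := by omega
      by_contra h7
      interval_cases p <;> first | omega | norm_num at hp
    by_contra hc
    have h5 : ∀ k, Ω j ≤ k → n.factorial ≤ n ^ (Nat.log 2 n + 1) * 7 ^ k := fun k hk =>
      hj ▸ Nat.mul_le_mul hle (h4.trans (Nat.pow_le_pow_right (by norm_num) hk))
    have h6 : ∀ k : ℕ, Ω k.factorial = k.factorial.primeFactorsList.length := fun k => rfl
    rw [h6] at h3
    generalize Ω m = a at *
    generalize Ω j = b at *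
    interval_cases n
    all_goals simp [Nat.factorial, Nat.primeFactorsList_ofNat] at h3
    · omega
    · omega
    · omega
    · omega
    · have := h5 0 (by omega); norm_num [Nat.factorial] at this
    · omega
    · have := h5 1 (by omega); norm_num [Nat.factorial] at this
    · have := h5 2 (by omega); norm_num [Nat.factorial] at this
    · have := h5 2 (by omega); norm_num [Nat.factorial] at this
  rcases Nat.lt_or_ge n 32 with h32 | h32
  · by_contra hc
    have h5 : 2 ^ ((4 * n - 4) / 3 + 1) ≤ n ^ (Nat.log 2 n + 1) := (Nat.pow_le_pow_right (by norm_num) (by omega)).trans h2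
    interval_cases n <;> norm_num at h5
  · have hL : 5 ≤ Nat.log 2 n := Nat.le_log_of_pow_le (by norm_num) h32
    have h3 : n < 2 ^ (Nat.log 2 n + 1) := Nat.lt_pow_succ_log_self (by norm_num) n
    have h4 : 2 ^ Nat.log 2 n ≤ n := Nat.pow_log_le_self 2 (by omega)
    have h5 : n ^ (Nat.log 2 n + 1) < (2 ^ (Nat.log 2 n + 1)) ^ (Nat.log 2 n + 1) := Nat.pow_lt_pow_left h3 (by omega)
    rw [← pow_mul, ← sq] at h5
    have h6 := (Nat.pow_lt_pow_iff_right (by norm_num)).1 (h2.trans_lt h5)
    have := sq_le_pow _ hL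
    omega

theorem num_prod {s f t : ℕ} (hf : 2 ≤ f) (ht : 2 ≤ t) : (s + f) * t ≤ 2 ^ s * t ^ f := by
  obtain ⟨g, rfl⟩ := Nat.exists_eq_add_of_le' (show 1 ≤ f by omega)
  have h1 : s + 1 ≤ 2 ^ s := Nat.lt_two_pow_self
  have h2 : g + 1 ≤ t ^ g := le_trans Nat.lt_two_pow_self (Nat.pow_le_pow_left ht g)
  rw [pow_succ, ← mul_assoc]
  exact Nat.mul_le_mul_right _ (le_trans (by nlinarith) (Nat.mul_le_mul h1 h2))

theorem num_diag {f t : ℕ} (hf : 2 ≤ f) (ht : 4 ≤ t) : 2 * f * t ≤ t ^ f := by
  obtain ⟨g, rfl⟩ := Nat.exists_eq_add_of_le' (show 1 ≤ f by omega)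
  have h1 : ∀ g : ℕ, 1 ≤ g → 2 * (g + 1) ≤ 4 ^ g := fun g hg => by
    induction g, hg using Nat.le_induction with
    | base => norm_num
    | succ g _ ih => rw [pow_succ]; omega
  rw [pow_succ]
  exact Nat.mul_le_mul_right _ ((h1 g (by omega)).trans (Nat.pow_le_pow_left ht g))

open MulAction Cfsg.Agent.Perm

universe v

/-- the bound `3 c(G) + 4 r ≤ 4 n` for sets of pairwise non-conjugate points -/
def Bd (G α : Type v) [Group G] [MulAction G α] : Prop :=
  ∀ S : Set α, (∀ x ∈ S, ∀ y ∈ S, ∀ g : G, g • x = y → x = y) → 3 * c G + 4 * S.ncard ≤ 4 * Nat.card α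

theorem four_le {T : Type*} [Group T] [Finite T] (hT : ¬ IsMulCommutative T) : 4 ≤ Nat.card T := by
  by_contra h
  have hp := Nat.card_pos (α := T)
  have : IsCyclic T := by
    obtain h | h | h : Nat.card T = 1 ∨ Nat.card T = 2 ∨ Nat.card T = 3 := by omega
    · have := (Nat.card_eq_one_iff_unique.1 h).1
      infer_instance
    · exact isCyclic_of_prime_card (p := 2) h
    · exact isCyclic_of_prime_card (p := 3) h
  exact hT inferInstance

theorem prim_reg {G α : Type v} [Group G] [Finite G] [Finite α] [MulAction G α] [FaithfulSMul G α]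
    (hn : 2 ≤ Nat.card α) (N : Subgroup G) [N.Normal] (ht : IsPretransitive N α) (a : α)
    (hr : ∀ h ∈ N, h • a = a → h = 1) : 3 * c G + 4 ≤ 4 * Nat.card α := by
  have h1 := card_eq_of_regular ht a hr
  have h2 : Nat.card G ∣ (Nat.card α).factorial := by
    rw [← Nat.card_perm]
    exact card_dvd_of_injective (toPermHom G α) toPerm_injective
  have h3 : Nat.card (stabilizer G a) ≤ Nat.card (MulAut N) :=
    Nat.card_le_card_of_injective ((MulAut.conjNormal (H := N)).comp (stabilizer G a).subtype)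
      ((injective_iff_map_eq_one _).2 fun g hg => Subtype.ext (eq_one_of_commute ht (fun h hh => by
        have := congrArg Subtype.val (DFunLike.congr_fun hg ⟨h, hh⟩)
        simp only [MonoidHom.comp_apply, MulAut.conjNormal_apply, MulAut.one_apply, coe_subtype] at this
        rw [mul_inv_eq_iff_eq_mul] at this
        exact this.symm) g.2))
  haveI : IsPretransitive G α := ⟨fun x y => by obtain ⟨n, hn⟩ := exists_smul_eq N x y; exact ⟨n, hn⟩⟩
  have h4 := (stabilizer G a).index_mul_card
  rw [index_stabilizer_of_transitive] at h4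
  have h5 := card_mulAut N
  rw [h1] at h5
  refine le_trans ?_ (num_reg hn h2 ?_)
  · have := c_le_omega (G := G); omega
  · rw [← h4, pow_succ']
    exact Nat.mul_le_mul_left _ (h3.trans h5)

theorem prim_big {G α : Type v} [Group G] [Finite G] [Finite α] [MulAction G α] [FaithfulSMul G α]
    (ih : ∀ (G' β : Type v) [Group G'] [Finite G'] [Finite β] [MulAction G' β] [FaithfulSMul G' β],
      Nat.card β < Nat.card α → Bd G' β)
    (N : Subgroup G) [N.Normal] (ht : IsPretransitive N α) (a : α) {T : Type} [Group T] [Finite T] [IsSimpleGroup T]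
    (hT : ¬ IsMulCommutative T) {m : ℕ} (hm : 0 < m) (e : N ≃* (Fin m → T)) (hb : m * Nat.card T ≤ Nat.card α) :
    3 * c (stabilizer G a) + 4 * m ≤ 4 * Nat.card α := by
  classical
  let π : Fin m → N →* T := fun i => (Pi.evalMonoidHom (fun _ => T) i).comp e.toMonoidHom
  have hπ : ∀ i, Function.Surjective (π i) := fun i t => ⟨e.symm fun _ => t, by simp [π]⟩
  have hσ : ∀ (h : G) (j : Fin m), ∃ (i : Fin m) (β : T ≃* T), ∀ n : N,
      π j (MulAut.conjNormal h n) = β (π i n) := fun h j => by
    obtain ⟨i, β, hβ⟩ := exists_coord_of_surjective hT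
      ((π j).comp ((MulAut.conjNormal h).toMonoidHom.comp e.symm.toMonoidHom))
      ((hπ j).comp ((MulAut.conjNormal h).surjective.comp e.symm.surjective))
    exact ⟨i, β, fun n => by simpa [π] using hβ (e n)⟩
  choose σ β hβ using hσ
  obtain ⟨t₀, ht₀⟩ := exists_ne (1 : T)
  have hσi : ∀ h, Function.Injective (σ h) := fun h i j hij => by
    by_contra hne
    have h1 := hβ h i ((MulAut.conjNormal h).symm (e.symm (Pi.mulSingle i t₀)))
    have h2 := hβ h j ((MulAut.conjNormal h).symm (e.symm (Pi.mulSingle i t₀)))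
    rw [MulEquiv.apply_symm_apply] at h1 h2
    rw [show π j (e.symm (Pi.mulSingle i t₀)) = 1 by simp [π, Ne.symm hne], eq_comm,
      MulEquiv.map_eq_one_iff, ← hij] at h2
    rw [h2, map_one] at h1
    exact ht₀ (by simpa [π] using h1)
  let P : N → Prop := fun x => x ≠ 1 ∧ ∃ i, ∀ j, j ≠ i → e x j = 1
  have hP : ∀ (g : G) (x : N), P x → P (MulAut.conjNormal g x) := by
    rintro g x ⟨h1, i, hi⟩
    obtain ⟨i', rfl⟩ := (Finite.injective_iff_surjective.1 (hσi g)) i
    refine ⟨fun h => h1 ((MulEquiv.map_eq_one_iff _).1 h), i', fun j hj => ?_⟩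
    have := hβ g j x
    rw [show π (σ g j) x = 1 from hi _ fun h => hj (hσi g h), map_one] at this
    exact this
  letI : MulAction (stabilizer G a) {x // P x} :=
    { smul := fun g x => ⟨MulAut.conjNormal (g : G) x.1, hP _ _ x.2⟩
      one_smul := fun x => Subtype.ext (by
        show MulAut.conjNormal ((1 : stabilizer G a) : G) x.1 = x.1
        simp)
      mul_smul := fun g h x => Subtype.ext (by
        show MulAut.conjNormal ((g * h : stabilizer G a) : G) x.1 = MulAut.conjNormal (g : G) (MulAut.conjNormal (h : G) x.1)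
        simp) }
  have hsing : ∀ i (τ : T), τ ≠ 1 → P (e.symm (Pi.mulSingle i τ)) := fun i τ hτ =>
    ⟨fun h => hτ (by simpa using congrFun ((MulEquiv.map_eq_one_iff _).1 h) i), i, fun j hj => by simp [hj]⟩
  haveI : FaithfulSMul (stabilizer G a) {x // P x} := ⟨fun {g h} hgh => by
    have key : ∀ x : Fin m → T, MulAut.conjNormal (g : G) (e.symm x) = MulAut.conjNormal (h : G) (e.symm x) := by
      intro x
      refine pi_mem_of_mulSingle_mem (H := MonoidHom.eqLocus
        ((MulAut.conjNormal (g : G)).toMonoidHom.comp e.symm.toMonoidHom)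
        ((MulAut.conjNormal (h : G)).toMonoidHom.comp e.symm.toMonoidHom)) x fun i => ?_
      by_cases hx : x i = 1
      · rw [hx, Pi.mulSingle_one]; exact one_mem _
      · exact congrArg Subtype.val (hgh ⟨_, hsing i _ hx⟩)
    rw [← inv_mul_eq_one]
    refine Subtype.ext (eq_one_of_commute ht (fun n hn => ?_) (g⁻¹ * h).2)
    have := congrArg Subtype.val (key (e ⟨n, hn⟩))
    simp only [MulEquiv.symm_apply_apply, MulAut.conjNormal_apply] at this
    simp only [Subgroup.coe_mul, Subgroup.coe_inv]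
    calc n * ((g : G)⁻¹ * h) = (g : G)⁻¹ * (g * n * (g : G)⁻¹) * h := by group
      _ = (g : G)⁻¹ * h * n := by rw [this]; group⟩
  have hc : Nat.card {x // P x} ≤ m * (Nat.card T - 1) := by
    have h1 : Nat.card {τ : T // τ ≠ 1} = Nat.card T - 1 := by
      have := Fintype.ofFinite T
      simp [Nat.card_eq_fintype_card, Fintype.card_subtype_compl]
    rw [← h1, show m * Nat.card {τ : T // τ ≠ 1} = Nat.card (Fin m × {τ : T // τ ≠ 1}) by simp]
    refine Nat.card_le_card_of_surjective (fun y => ⟨_, hsing y.1 y.2.1 y.2.2⟩) ?_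
    rintro ⟨x, h1, i, hi⟩
    have h2 : e x = Pi.mulSingle i (e x i) := funext fun j => by
      by_cases hj : j = i
      · simp [hj]
      · simp [hj, hi j hj]
    refine ⟨(i, ⟨e x i, fun h => h1 ?_⟩), Subtype.ext ?_⟩
    · rw [h, Pi.mulSingle_one] at h2
      exact (MulEquiv.map_eq_one_iff _).1 h2
    · show e.symm (Pi.mulSingle i (e x i)) = x
      rw [← h2, MulEquiv.symm_apply_apply]
  have ht1 := Nat.card_pos (α := T)
  obtain ⟨t, ht'⟩ : ∃ t, Nat.card T = t + 1 := ⟨Nat.card T - 1, by omega⟩
  rw [ht', Nat.add_sub_cancel] at hc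
  rw [ht', mul_add, mul_one] at hb
  have := ih (stabilizer G a) {x // P x} (by omega) ∅ (by simp)
  rw [Set.ncard_empty] at this
  omega

theorem prim {α : Type v} [Finite α] (H : Subgroup (Equiv.Perm α)) [IsPreprimitive H α] (hn : 2 ≤ Nat.card α)
    (ih : ∀ (G' β : Type v) [Group G'] [Finite G'] [Finite β] [MulAction G' β] [FaithfulSMul G' β],
      Nat.card β < Nat.card α → Bd G' β)
    (ih2 : ∀ (G' : Type v) [Group G'] [Finite G'] [MulAction G' α] [FaithfulSMul G' α],
      Nat.card G' < Nat.card H → Bd G' α) : 3 * c H + 4 ≤ 4 * Nat.card α := by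
  classical
  haveI : Nontrivial α := Finite.one_lt_card_iff_nontrivial.1 hn
  obtain ⟨a, b, hab⟩ := exists_pair_ne α
  haveI : Nontrivial H := by
    obtain ⟨g, hg⟩ := exists_smul_eq H a b
    exact ⟨⟨g, 1, fun h => hab (by rw [← hg, h, one_smul])⟩⟩
  obtain ⟨N, _, hN, hmin⟩ := Solv.exists_minimal_normal H
  have ht := isPretransitive_of_normal (α := α) N hN
  by_cases hr : ∀ h ∈ N, h • a = a → h = 1
  · exact prim_reg hn N ht a hr
  have hnab : ¬ IsMulCommutative N := fun h => hr fun x hx hxa =>
    eq_one_of_commute ht (fun y hy => mul_comm_of_isMulCommutative h y hy x hx) hxa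
  obtain ⟨T, _, m, e, _, hT, hm, hD⟩ := S0723.result H N hN hmin (fun L _ hL hLmin => by
    by_contra hne
    refine hr fun x hx hxa => eq_one_of_commute (isPretransitive_of_normal (α := α) L hL) (fun y hy => ?_) hxa
    refine commute_of_minimal_normal hLmin (fun hle => ?_) y hy x hx
    exact (hmin L inferInstance hle).elim hL hne) hnab a
  haveI : Finite T := Finite.of_injective (fun t : T => e.symm fun _ => t) fun s t h =>
    congrFun (e.symm.injective h) ⟨0, hm⟩
  have h1 := c_add N (stabilizer H a) fun h => by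
    obtain ⟨n, hn⟩ := exists_smul_eq N a (h • a)
    exact ⟨n, n.2, (n : H)⁻¹ * h, by rw [mem_stabilizer_iff, mul_smul, inv_smul_eq_iff]; exact hn.symm, by simp⟩
  have h2 : c N ≤ m := (c_congr e).trans_le (c_pi m)
  have h3 : c (N ⊓ stabilizer H a : Subgroup H) = c (stabilizer N a) := by
    rw [c_sub, c_sub, ← cl_map N.subtype_injective]
    congr 1
    ext x
    exact ⟨fun h => ⟨⟨x, (mem_inf.1 h).1⟩, (mem_inf.1 h).2, rfl⟩, fun ⟨y, hy, e⟩ => e ▸ mem_inf.2 ⟨y.2, hy⟩⟩
  have h4 := (stabilizer N a).index_mul_card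
  rw [index_stabilizer_of_transitive, Nat.card_congr e.toEquiv, Nat.card_fun, Nat.card_fin] at h4
  have h5 : 3 * c (stabilizer H a) + 8 ≤ 4 * Nat.card α := by
    have := ih2 (stabilizer H a) (by
      have h6 := (stabilizer H a).index_mul_card
      rw [index_stabilizer_of_transitive] at h6
      have := Nat.card_pos (α := stabilizer H a)
      nlinarith) {a, b} (by
        rintro x (rfl | rfl) y (rfl | rfl) g hg
        · rfl
        · exact g.2.symm.trans hg
        · exact (smul_eq_iff_eq_inv_smul g).1 hg |>.trans (g⁻¹).2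
        · rfl)
    rwa [Set.ncard_pair hab] at this
  haveI : Nontrivial (stabilizer N a) := by
    push Not at hr
    obtain ⟨x, hx, hxa, hx1⟩ := hr
    exact ⟨⟨⟨⟨x, hx⟩, hxa⟩, 1, fun h => hx1 (congrArg (fun y => (y.1 : H)) h)⟩⟩
  have h6 := c_pos (G := stabilizer N a)
  have h7 := four_le hT
  by_cases h8 : m ≤ c (stabilizer N a) + 1
  · omega
  suffices m * Nat.card T ≤ Nat.card α by
    have := prim_big ih N ht a hT hm e this
    omega
  rcases hD with ⟨K, hK, hD⟩ | ⟨k, cc, hk, hcc, hD⟩
  · have h9 := card_le_pow_c (u := Nat.card T / 2) (by omega) _ (stabilizer N a)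
      (fun i => ((Pi.evalMonoidHom (fun _ => T) i).comp e.toMonoidHom).comp (stabilizer N a).subtype) rfl
      (fun d hd => Subtype.ext ((MulEquiv.map_eq_one_iff e).1 (funext hd))) (fun i => by
        refine le_trans (card_le_of_le (K := K i) (by rintro _ ⟨d, rfl⟩; exact (hD d).1 d.2 i)) ?_
        have h10 := (K i).index_mul_card
        have h11 : (K i).index ≠ 1 := fun h => hK i (index_eq_one.1 h)
        have h12 : (K i).index ≠ 0 := index_ne_zero_of_finite
        rw [Nat.le_div_iff_mul_le (by norm_num), ← h10, mul_comm]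
        exact Nat.mul_le_mul_right _ (by omega))
    generalize c (stabilizer N a) = s at *
    obtain ⟨f, rfl⟩ : ∃ f, m = s + f := ⟨m - s, by omega⟩
    refine (num_prod (by omega) (by omega)).trans (Nat.le_of_mul_le_mul_right (c := Nat.card T ^ s) ?_ (by positivity))
    calc 2 ^ s * Nat.card T ^ f * Nat.card T ^ s = 2 ^ s * Nat.card T ^ (s + f) := by ring
      _ ≤ 2 ^ s * (Nat.card α * (Nat.card T / 2) ^ s) := by rw [← h4]; gcongr
      _ = Nat.card α * (2 * (Nat.card T / 2)) ^ s := by rw [mul_pow]; ring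
      _ ≤ Nat.card α * Nat.card T ^ s := by gcongr; omega
  · have h9 : 2 * (Finset.univ.image cc).card ≤ m := by
      have := Finset.mul_card_image_le_card (f := cc) Finset.univ 2 fun j hj => by
        have h10 : (Finset.univ.filter fun i => cc i = j).card = Nat.card {i // cc i = j} := by
          rw [Nat.card_eq_fintype_card, Fintype.card_subtype]
        obtain ⟨i, -, hi⟩ := Finset.mem_image.1 hj
        have : 0 < (Finset.univ.filter fun i => cc i = j).card := Finset.card_pos.2 ⟨i, by simp [hi]⟩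
        have := hcc j
        omega
      rwa [Finset.card_univ, Fintype.card_fin] at this
    have h10 : Nat.card (stabilizer N a) ≤ Nat.card T ^ (Finset.univ.image cc).card := by
      rw [← Nat.card_eq_finsetCard, ← Nat.card_fun]
      refine Nat.card_le_card_of_injective (fun d j => e d.1 (Finset.mem_image.1 j.2).choose) fun d d' h => ?_
      refine Subtype.ext (e.injective (funext fun i => ?_))
      have hi : cc i ∈ Finset.univ.image cc := Finset.mem_image_of_mem _ (Finset.mem_univ i)
      have h11 := (Finset.mem_image.1 hi).choose_spec.2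
      rw [← (hD d).1 d.2 _ _ h11, ← (hD d').1 d'.2 _ _ h11]
      exact congrFun h ⟨_, hi⟩
    generalize (Finset.univ.image cc).card = l at *
    obtain ⟨f, rfl⟩ : ∃ f, m = l + f := ⟨m - l, by omega⟩
    refine le_trans (Nat.mul_le_mul_right _ (show l + f ≤ 2 * f by omega)) ((num_diag (by omega) h7).trans
      (Nat.le_of_mul_le_mul_right (c := Nat.card T ^ l) ?_ (by positivity)))
    rw [← pow_add, add_comm f l, ← h4]
    gcongr

end Cfsg.Agent.CL
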